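import Cfsg.Agent.Lib.Supersolvable.Basic
import Cfsg.Agent.Lib.Coprime.Commutator
import Cfsg.Agent.Lib.Cores.Gaschutz
import Cfsg.Agent.Lib.Cores.MinNormal
import Cfsg.Agent.Lib.PGroups.Frattini

/-!
Huppert's theorem: if every maximal subgroup has prime index, the group is supersolvable.
-/

set_option autoImplicit false
set_option linter.style.haveILetI false
set_option maxHeartbeats 400000

namespace Cfsg.Agent.Lib.Supersolvable

open Subgroup
open scoped commutatorElement Pointwise

universe u

variable {G : Type u} [Group G]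

/-- All maximal subgroups of prime index: the Sylow subgroup for the largest prime is normal. -/
theorem sylow_normal_of_index_prime [Finite G] (h : ∀ M : Subgroup G, IsCoatom M → M.index.Prime)
    (p : ℕ) [Fact p.Prime] (hmax : ∀ q : ℕ, q.Prime → q ∣ Nat.card G → q ≤ p) (P : Sylow p G) :
    (P : Subgroup G).Normal := by
  rw [← normalizer_eq_top_iff]
  by_contra hne
  obtain ⟨M, hM, hle⟩ :=
    (IsCoatomic.eq_top_or_exists_le_coatom (normalizer ((P : Subgroup G) : Set G))).resolve_left hne
  have hq := h M hM
  have hPM : (P : Subgroup G) ≤ M := le_normalizer.trans hle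
  have hqp : M.index < p := by
    refine lt_of_le_of_ne (hmax _ hq (index_dvd_card M)) fun he => ?_
    exact P.not_dvd_index (he.symm.dvd.trans (index_dvd_of_le hPM))
  let PM : Sylow p M := P.subtype hPM
  have h1 := card_sylow_modEq_one p G
  have h2 := card_sylow_modEq_one p M
  rw [Sylow.card_eq_index_normalizer P,
    show ((P : Subgroup G) : Set G) = (P : Set G) from rfl] at *
  rw [← relIndex_mul_index hle] at h1
  rw [Sylow.card_eq_index_normalizer PM,
    show (PM : Set M) = (((P : Subgroup G).subgroupOf M : Subgroup M) : Set M) from rfl,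
    ← subgroupOf_normalizer_eq hPM] at h2
  have h3 : M.index ≡ 1 [MOD p] := by
    have h4 : (normalizer ((P : Subgroup G) : Set G)).relIndex M * M.index ≡ 1 * M.index [MOD p] :=
      Nat.ModEq.mul_right _ h2
    rw [one_mul] at h4
    exact h4.symm.trans h1
  rw [Nat.ModEq, Nat.mod_eq_of_lt hqp, Nat.mod_eq_of_lt (Fact.out : p.Prime).one_lt] at h3
  exact hq.ne_one h3

/-- The hypothesis passes to quotients. -/
theorem index_prime_quotient (h : ∀ M : Subgroup G, IsCoatom M → M.index.Prime) (N : Subgroup G)
    [N.Normal] (M : Subgroup (G ⧸ N)) (hM : IsCoatom M) : M.index.Prime := by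
  rw [← index_comap_of_surjective M (QuotientGroup.mk'_surjective N)]
  exact h _ (isCoatom_comap_of_surjective (QuotientGroup.mk'_surjective N) hM)

/-- In a supersolvable group, derived elements and `(p-1)`-th powers act trivially on normal
`p`-subgroups, provided their order is prime to `p`. -/
theorem mem_centralizer_of_pPrime [Finite G] (hG : IsSupersolvable G) (p : ℕ) [Fact p.Prime]
    (g : G) (hg : g ∈ commutator G ∨ ∃ x, g = x ^ (p - 1)) (hord : ¬ p ∣ orderOf g)
    (Q : Subgroup G) [Q.Normal] (hQ : IsPGroup p Q) : g ∈ centralizer (Q : Set G) := by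
  refine induction (motive := fun G [Group G] => ∀ (g : G),
    (g ∈ commutator G ∨ ∃ x, g = x ^ (p - 1)) → ¬ p ∣ orderOf g →
    ∀ (Q : Subgroup G), Q.Normal → IsPGroup p Q → g ∈ centralizer (Q : Set G))
    ?_ ?_ G hG g hg hord Q inferInstance hQ
  · intro G _ _ g _ _ Q _ _
    rw [mem_centralizer_iff]; intro x _; exact Subsingleton.elim _ _
  · intro G _ _ P _ r hr hPc _ _ IH g hg hord Q hQn hQ
    haveI := hQn
    haveI : IsCyclic P := @isCyclic_of_prime_card _ _ r ⟨hr⟩ hPc
    have hgP : P ⊓ Q ≤ centralizer {g} := by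
      by_cases hrp : r = p
      · intro x hx
        have hxP := (mem_inf.1 hx).1
        have hgc : g ∈ centralizer (P : Set G) := by
          rcases hg with hg | ⟨y, rfl⟩
          · exact commutator_le_centralizer P hg
          · have hone : MulAut.conjNormal (H := P) y ^ (p - 1) = 1 := by
              rw [← orderOf_dvd_iff_pow_eq_one]
              have := orderOf_dvd_natCard (MulAut.conjNormal (H := P) y)
              rwa [IsCyclic.card_mulAut, hPc, Nat.totient_prime hr, hrp] at this
            rw [← map_pow] at hone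
            rw [mem_centralizer_iff]
            intro z hz
            have := congrArg (fun φ : MulAut P => ((φ ⟨z, hz⟩ : P) : G)) hone
            simp only [MulAut.conjNormal_apply, MulAut.one_apply] at this
            exact (mul_inv_eq_iff_eq_mul.1 this).symm
        rw [mem_centralizer_singleton_iff]
        exact mem_centralizer_iff.1 hgc x hxP
      · intro x hx
        have h1 : orderOf x ∣ r := hPc ▸ Subgroup.orderOf_dvd_natCard P (mem_inf.1 hx).1
        obtain ⟨k, hk⟩ := hQ ⟨x, (mem_inf.1 hx).2⟩
        rcases (Nat.dvd_prime hr).1 h1 with h2 | h2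
        · rw [orderOf_eq_one_iff.1 h2]; exact one_mem _
        · exfalso
          have h3 : x ^ p ^ k = 1 := congrArg Subtype.val hk
          exact hrp ((Nat.prime_dvd_prime_iff_eq hr Fact.out).1
            (hr.dvd_of_dvd_pow (h2 ▸ orderOf_dvd_of_pow_eq_one h3)))
    set f := QuotientGroup.mk' P with hf
    have hfs : Function.Surjective f := QuotientGroup.mk'_surjective P
    have hgQ : f g ∈ centralizer ((Q.map f : Subgroup (G ⧸ P)) : Set (G ⧸ P)) := by
      refine IH (f g) ?_ (fun h => hord (h.trans (orderOf_map_dvd f g))) _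
        (hQn.map f hfs) (hQ.map f)
      rcases hg with hg | ⟨y, rfl⟩
      · left
        have : (commutator G).map f ≤ commutator (G ⧸ P) := by
          rw [commutator_def, Subgroup.map_commutator, commutator_def]
          exact commutator_mono le_top le_top
        exact this ⟨g, hg, rfl⟩
      · exact Or.inr ⟨f y, map_pow f y _⟩
    have hker : ⁅Q, zpowers g⁆ ≤ P ⊓ Q := by
      rw [Subgroup.commutator_le]
      intro x hx y hy
      refine mem_inf.2 ⟨?_, ?_⟩
      · obtain ⟨k, rfl⟩ := hy
        rw [← (QuotientGroup.eq_one_iff (N := P) _)]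
        show f ⁅x, g ^ k⁆ = 1
        rw [map_commutatorElement, map_zpow, commutatorElement_eq_one_iff_mul_comm]
        exact mem_centralizer_iff.1 (zpow_mem hgQ k) (f x) ⟨x, hx, rfl⟩
      · rw [commutatorElement_def, mul_assoc, mul_assoc]
        exact mul_mem hx (by simpa [mul_assoc] using hQn.conj_mem _ (inv_mem hx) y)
    have hcop : (Nat.card (zpowers g)).Coprime (Nat.card ↥(P ⊓ Q)) := by
      rw [Nat.card_zpowers]
      obtain ⟨k, hk⟩ := IsPGroup.iff_card.1 (hQ.to_le (inf_le_right : P ⊓ Q ≤ Q))
      rw [hk]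
      exact Nat.Coprime.pow_right _ ((Fact.out : p.Prime).coprime_iff_not_dvd.2 hord).symm
    have hbot : ⁅P ⊓ Q, zpowers g⁆ = ⊥ := by
      rw [commutator_eq_bot_iff_le_centralizer, le_centralizer_iff, zpowers_le,
        mem_centralizer_iff]
      intro x hx
      exact (mem_centralizer_singleton_iff.1 (hgP hx))
    exact Coprime.le_centralizer_of_series hcop hker hbot (mem_zpowers g)

/-- An automorphism of order dividing `p - 1` of an abelian group of exponent `p` has an
eigenvector. -/
theorem exists_eigen {N : Type*} [CommGroup N] [Nontrivial N] (p : ℕ) [hp : Fact p.Prime]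
    (hN : ∀ x : N, x ^ p = 1) (φ : N →* N) (hφ : ∀ x, φ^[p - 1] x = x) :
    ∃ x : N, x ≠ 1 ∧ ∃ c : ℕ, φ x = x ^ c := by
  classical
  letI : Module (ZMod p) (Additive N) :=
    AddCommGroup.zmodModule (fun x => congrArg Additive.ofMul (hN (Additive.toMul x)))
  set ψ := (MonoidHom.toAdditive φ) with hψ
  have hsmul : ∀ (a : ZMod p) (v : Additive N), ψ (a • v) = a • ψ v := fun a v =>
    ZMod.map_smul ψ a v
  have hiter : ∀ (j : ℕ) (v : Additive N),
      ψ^[j] v = Additive.ofMul (φ^[j] (Additive.toMul v)) := by
    intro j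
    induction j with
    | zero => intro v; rfl
    | succ j ih =>
      intro v
      rw [Function.iterate_succ_apply', Function.iterate_succ_apply', ih]; rfl
  obtain ⟨x, hx⟩ := exists_ne (1 : N)
  set v := Additive.ofMul x with hv
  set e := p - 1 with he
  have he1 : 0 < e := by have := hp.out.two_le; omega
  have hcard : Fintype.card (ZMod p)ˣ = e := ZMod.card_units p
  let w : (ZMod p)ˣ → Additive N := fun c =>
    ∑ j ∈ Finset.range e, ((c⁻¹ : (ZMod p)ˣ) ^ j : (ZMod p)ˣ).val • ψ^[j] v
  have heig : ∀ c, ψ (w c) = (c : ZMod p) • w c := by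
    intro c
    have hrot : ∑ j ∈ Finset.range e, ((c⁻¹ : (ZMod p)ˣ) ^ (j + 1) : (ZMod p)ˣ).val • ψ^[j + 1] v
        = w c := by
      let F : ℕ → Additive N := fun j => ((c⁻¹ : (ZMod p)ˣ) ^ j : (ZMod p)ˣ).val • ψ^[j] v
      have h0 : F e = F 0 := by
        simp only [F]
        rw [← hcard, pow_card_eq_one, pow_zero, hcard, hiter, hφ, hiter]
        rfl
      have h1 := Finset.sum_range_succ F e
      have h2 := Finset.sum_range_succ' F e
      rw [h1, h0] at h2
      exact (add_right_cancel h2).symm
    conv_rhs => rw [← hrot]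
    simp only [w, map_sum, hsmul, Finset.smul_sum, smul_smul]
    refine Finset.sum_congr rfl fun j _ => ?_
    rw [← Function.iterate_succ_apply' ψ j v, ← Units.val_mul]
    congr 2
    rw [pow_succ, mul_left_comm, mul_inv_cancel, mul_one]
  by_contra hcon
  simp only [not_exists, not_and] at hcon
  have hw0 : ∀ c, w c = 0 := by
    intro c
    by_contra hne
    refine hcon (Additive.toMul (w c)) (fun h => hne (congrArg Additive.ofMul h))
      (c : ZMod p).val ?_
    have := heig c
    rw [← ZMod.natCast_zmod_val (c : ZMod p), Nat.cast_smul_eq_nsmul] at this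
    exact congrArg Additive.toMul this
  have hsum : ∑ c : (ZMod p)ˣ, w c = 0 := Finset.sum_eq_zero fun c _ => hw0 c
  simp only [w] at hsum
  rw [Finset.sum_comm, Finset.sum_eq_single 0] at hsum
  · simp only [pow_zero, Units.val_one, one_smul, Function.iterate_zero, id_eq,
      Finset.sum_const, Finset.card_univ, hcard, ← Nat.cast_smul_eq_nsmul (ZMod p)] at hsum
    have hu : IsUnit ((e : ℕ) : ZMod p) := by
      rw [ZMod.isUnit_iff_coprime]
      exact (hp.out.coprime_iff_not_dvd.2 (fun h => by
        have := Nat.le_of_dvd he1 h; omega)).symm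
    exact hx (congrArg Additive.toMul (hu.smul_eq_zero.1 hsum))
  · intro j hj hj0
    rw [← Finset.sum_smul]
    have : ∑ c : (ZMod p)ˣ, (((c⁻¹ : (ZMod p)ˣ) ^ j : (ZMod p)ˣ) : ZMod p) = 0 := by
      have hdvd : ¬ Fintype.card (ZMod p) - 1 ∣ j := by
        rw [ZMod.card]
        exact fun h => hj0 (Nat.eq_zero_of_dvd_of_lt h (Finset.mem_range.1 hj))
      rw [← Fintype.sum_equiv (Equiv.inv (ZMod p)ˣ) (fun c => ((c : ZMod p)) ^ j) _
        (fun c => by simp)]
      have := FiniteField.sum_pow_units (ZMod p) j
      rw [if_neg hdvd] at this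
      simpa using this
    rw [this, zero_smul]
  · intro h
    exact absurd (Finset.mem_range.2 he1) h

/-- The central step: `N` is the unique minimal normal subgroup, lies in the normal Sylow
`p`-subgroup `P` and in every maximal subgroup, and `G / N` is supersolvable. Then `N` is
cyclic. -/
theorem isCyclic_of_le_frattini [Finite G] (p : ℕ) [Fact p.Prime] (P : Sylow p G)
    [(P : Subgroup G).Normal] (N : Subgroup G) [N.Normal] [IsMulCommutative N] (hNne : N ≠ ⊥)
    (huniq : ∀ K : Subgroup G, K.Normal → K ≠ ⊥ → N ≤ K)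
    (hNP : N ≤ (P : Subgroup G)) (hNZ : (P : Subgroup G) ≤ centralizer (N : Set G))
    (hexp : ∀ x ∈ N, x ^ p = 1) (hcompl : ∀ H : Subgroup G, ¬ IsComplement' N H)
    (hquot : IsSupersolvable (G ⧸ N)) : IsCyclic N := by
  set P' := (P : Subgroup G) with hP'
  obtain ⟨H, hH⟩ := exists_right_complement'_of_coprime (N := P') P.card_coprime_index
  have hHc : ∀ x ∈ H, ¬ p ∣ orderOf x := by
    intro x hx hd
    have h1 := hd.trans (Subgroup.orderOf_dvd_natCard H hx)
    rw [← hH.symm.index_eq_card] at h1
    exact P.not_dvd_index h1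
  -- `N ≤ Φ(P)`
  set Φ := (frattini P').map P'.subtype with hΦ
  have hNΦ : N ≤ Φ := by
    by_cases hbot : Φ = ⊥
    · exfalso
      have hf : frattini P' = ⊥ := (map_eq_bot_iff_of_injective _ P'.subtype_injective).1 hbot
      have hE := (PGroups.frattini_eq_bot_iff (p := p) P.isPGroup').1 hf
      have hPexp : ∀ x ∈ P', x ^ p = 1 := fun x hx =>
        congrArg Subtype.val (PGroups.elemAb_pow hE (mem_top (⟨x, hx⟩ : P')))
      have hPcomm : ∀ x ∈ P', ∀ y ∈ P', x * y = y * x := fun x hx y hy =>
        congrArg Subtype.val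
          (PGroups.elemAb_comm hE (mem_top (⟨x, hx⟩ : P')) (mem_top (⟨y, hy⟩ : P')))
      obtain ⟨W, -, hW⟩ := Finite.exists_le_maximal
        (p := fun W : Subgroup G => W ≤ P' ∧ W ⊓ N = ⊥) (a := ⊥) ⟨bot_le, bot_inf_eq _⟩
      obtain ⟨⟨hWP, hWN⟩, hWmax⟩ := hW
      have hsup : N ⊔ W = P' := by
        refine le_antisymm (sup_le hNP hWP) fun x hx => ?_
        by_contra hxNW
        have hxW : x ∉ W := fun h => hxNW (mem_sup_right h)
        set W' := W ⊔ zpowers x with hW'
        have hW'P : W' ≤ P' := sup_le hWP (zpowers_le.2 hx)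
        have hW'N : W' ⊓ N = ⊥ := by
          rw [eq_bot_iff]
          intro y hy
          obtain ⟨hy1, hy2⟩ := mem_inf.1 hy
          have hWn : W ≤ normalizer (zpowers x : Set G) := by
            rw [le_normalizer_iff]
            intro a ha b hb
            rw [hPcomm a (hWP ha) b (zpowers_le.2 hx hb), mul_inv_cancel_right]; exact hb
          obtain ⟨a, ha, b, hb, rfl⟩ := Coprime.exists_mul_of_mem_sup hWn hy1
          have hbNW : b ∈ N ⊔ W := by
            rw [show b = a⁻¹ * (a * b) by group]
            exact mul_mem (mem_sup_right (inv_mem ha)) (mem_sup_left hy2)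
          have hb1 : b = 1 := by
            by_contra hbne
            apply hxNW
            have hbo : orderOf b = p := orderOf_eq_prime (hPexp b (zpowers_le.2 hx hb)) hbne
            have hxne : x ≠ 1 := fun h => hxW (h ▸ one_mem W)
            have hxo : orderOf x = p := orderOf_eq_prime (hPexp x hx) hxne
            have heq : zpowers b = zpowers x :=
              eq_of_le_of_card_ge (zpowers_le.2 hb) (by rw [Nat.card_zpowers, Nat.card_zpowers,
                hbo, hxo])
            exact zpowers_le.2 hbNW (heq ▸ mem_zpowers x)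
          rw [hb1, mul_one] at hy2 ⊢
          rw [← hWN]; exact mem_inf.2 ⟨ha, hy2⟩
        exact hxW (hWmax ⟨hW'P, hW'N⟩ le_sup_left (mem_sup_right (mem_zpowers x)))
      obtain ⟨C, hC⟩ := Cores.Gaschutz.exists_complement (K := N) (U := P') (A := W) hNP
        (P.card_coprime_index.coprime_dvd_left (card_dvd_of_le hNP)) hWN hsup
      exact hcompl C hC
    · exact huniq Φ inferInstance hbot
  -- commutators and `(p-1)`-th powers of `H` centralise `P`, hence are trivial
  set C := H ⊓ centralizer (P' : Set G) with hC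
  have hCn : C.Normal := by
    rw [← normalizer_eq_top_iff, eq_top_iff, ← hH.sup_eq_top]
    refine sup_le ?_ ?_
    · refine le_trans ?_ (centralizer_le_normalizer _)
      rw [le_centralizer_iff]; exact inf_le_right
    · exact Coprime.le_normalizer_inf le_normalizer
        (le_normalizer_of_normal (H := centralizer (P' : Set G)))
  have hCbot : C = ⊥ := by
    by_contra hne
    refine hNne (le_bot_iff.1 ?_)
    rw [← hH.disjoint.eq_bot]
    exact le_inf hNP ((huniq C hCn hne).trans inf_le_left)
  set f := QuotientGroup.mk' N with hf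
  have hcent : ∀ g ∈ H, (f g ∈ commutator (G ⧸ N) ∨ ∃ x, f g = x ^ (p - 1)) → g = 1 := by
    intro g hg hgc
    have hgQ : f g ∈ centralizer ((P'.map f : Subgroup (G ⧸ N)) : Set (G ⧸ N)) := by
      haveI : (P'.map f).Normal := Normal.map inferInstance f (QuotientGroup.mk'_surjective N)
      exact mem_centralizer_of_pPrime hquot p _ hgc
        (fun h => hHc g hg (h.trans (orderOf_map_dvd f g))) _ (P.isPGroup'.map f)
    have hA : zpowers g ≤ centralizer (P' : Set G) := by
      refine Coprime.le_centralizer_of_frattini le_normalizer_of_normal ?_ ?_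
      · obtain ⟨k, hk⟩ := IsPGroup.iff_card.1 (P.isPGroup'.to_subgroup (frattini P'))
        rw [Nat.card_zpowers, hk]
        exact Nat.Coprime.pow_right _
          ((Fact.out : p.Prime).coprime_iff_not_dvd.2 (hHc g hg)).symm
      · intro b hb y hy
        apply hNΦ
        obtain ⟨k, rfl⟩ := hb
        rw [← QuotientGroup.eq_one_iff (N := N)]
        show f ⁅g ^ k, y⁆ = 1
        rw [map_commutatorElement, map_zpow, commutatorElement_eq_one_iff_mul_comm]
        exact (mem_centralizer_iff.1 (zpow_mem hgQ k) (f y) ⟨y, hy, rfl⟩).symm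
    have : g ∈ C := mem_inf.2 ⟨hg, hA (mem_zpowers g)⟩
    rwa [hCbot, mem_bot] at this
  have hHab : ∀ a ∈ H, ∀ b ∈ H, a * b = b * a := by
    intro a ha b hb
    rw [← commutatorElement_eq_one_iff_mul_comm]
    refine hcent _ ?_ (Or.inl ?_)
    · rw [commutatorElement_def]
      exact mul_mem (mul_mem (mul_mem ha hb) (inv_mem ha)) (inv_mem hb)
    · rw [map_commutatorElement, commutator_def]
      exact commutator_mem_commutator (mem_top _) (mem_top _)
  have hHexp : ∀ a ∈ H, a ^ (p - 1) = 1 := fun a ha =>
    hcent _ (pow_mem ha _) (Or.inr ⟨f a, map_pow f a _⟩)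
  -- every element of `H` acts on `N` as a power map
  letI : CommGroup N := { mul_comm := IsMulCommutative.is_comm.comm }
  haveI : Nontrivial N := (Subgroup.nontrivial_iff_ne_bot N).2 hNne
  have hscal : ∀ a ∈ H, ∃ c : ℕ, ∀ x ∈ N, a * x * a⁻¹ = x ^ c := by
    intro a ha
    let φ : N →* N := (MulAut.conjNormal (H := N) a).toMonoidHom
    have hφiter : ∀ (j : ℕ) (x : N), ((φ^[j] x : N) : G) = a ^ j * x * (a ^ j)⁻¹ := by
      intro j
      induction j with
      | zero => intro x; simp
      | succ j ih =>
        intro x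
        rw [Function.iterate_succ_apply']
        show a * _ * a⁻¹ = _
        rw [ih]; group
    obtain ⟨⟨z, hz⟩, hz1, c, hc⟩ := exists_eigen p
      (fun x : N => Subtype.ext (hexp x x.2)) φ (fun x => Subtype.ext (by
        rw [hφiter, hHexp a ha]; group))
    have hNcomm : ∀ x ∈ N, ∀ y ∈ N, Commute x y := fun x hx y hy =>
      congrArg Subtype.val (mul_comm (⟨x, hx⟩ : N) ⟨y, hy⟩)
    let E : Subgroup G :=
      { carrier := {x | x ∈ N ∧ a * x * a⁻¹ = x ^ c}
        one_mem' := ⟨one_mem N, by simp⟩
        mul_mem' := fun {x y} hx hy => ⟨mul_mem hx.1 hy.1, by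
          rw [(hNcomm x hx.1 y hy.1).mul_pow, ← hx.2, ← hy.2]; group⟩
        inv_mem' := fun {x} hx => ⟨inv_mem hx.1, by rw [inv_pow, ← hx.2]; group⟩ }
    have hEn : E.Normal := by
      rw [← normalizer_eq_top_iff, eq_top_iff, ← hH.sup_eq_top]
      refine sup_le ?_ ?_ <;> rw [le_normalizer_iff]
      · intro y hy x hx
        have := mem_centralizer_iff.1 (hNZ hy) x hx.1
        rw [← this, mul_inv_cancel_right]; exact hx
      · intro y hy x hx
        refine ⟨(inferInstance : N.Normal).conj_mem x hx.1 y, ?_⟩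
        rw [conj_pow, ← hx.2]
        calc a * (y * x * y⁻¹) * a⁻¹ = (a * y) * x * (a * y)⁻¹ := by group
          _ = y * (a * x * a⁻¹) * y⁻¹ := by rw [hHab a ha y hy]; group
    have hEne : E ≠ ⊥ := by
      intro h
      have : z ∈ E := ⟨hz, congrArg Subtype.val hc⟩
      rw [h, mem_bot] at this
      exact hz1 (Subtype.ext this)
    exact ⟨c, fun x hx => (huniq E hEn hEne hx).2⟩
  obtain ⟨⟨x, hxN⟩, hx1⟩ := exists_ne (1 : N)
  have hxn : (zpowers x).Normal := by
    rw [← normalizer_eq_top_iff, eq_top_iff, ← hH.sup_eq_top]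
    refine sup_le ?_ ?_ <;> rw [le_normalizer_iff]
    · intro y hy u hu
      have := mem_centralizer_iff.1 (hNZ hy) u (zpowers_le.2 hxN hu)
      rw [← this, mul_inv_cancel_right]; exact hu
    · intro y hy u hu
      obtain ⟨c, hc⟩ := hscal y hy
      rw [hc u (zpowers_le.2 hxN hu)]; exact pow_mem hu c
  have : zpowers x = N := le_antisymm (zpowers_le.2 hxN)
    (huniq _ hxn (by rw [Ne, zpowers_eq_bot]; exact fun h => hx1 (Subtype.ext h)))
  exact this ▸ inferInstance

/-- **Huppert's theorem.** -/
theorem of_index_prime [Finite G] (h : ∀ M : Subgroup G, IsCoatom M → M.index.Prime) :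
    IsSupersolvable G := by
  suffices ∀ (n : ℕ) (G : Type u) [Group G] [Finite G], Nat.card G = n →
      (∀ M : Subgroup G, IsCoatom M → M.index.Prime) → IsSupersolvable G from this _ G rfl h
  intro n
  induction n using Nat.strong_induction_on with
  | _ n IH =>
    intro G _ _ hn h
    rcases subsingleton_or_nontrivial G with hs | hs
    · exact of_subsingleton
    have hq : ∀ (K : Subgroup G) [K.Normal], K ≠ ⊥ → IsSupersolvable (G ⧸ K) := by
      intro K _ hK
      refine IH _ ?_ _ rfl (index_prime_quotient h K)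
      rw [← hn, card_eq_card_quotient_mul_card_subgroup K]
      exact lt_mul_of_one_lt_right Nat.card_pos ((one_lt_card_iff_ne_bot K).2 hK)
    by_cases htwo : ∃ A B : Subgroup G, A.Normal ∧ B.Normal ∧ A ≠ ⊥ ∧ B ≠ ⊥ ∧ A ⊓ B = ⊥
    · obtain ⟨A, B, hA, hB, hA1, hB1, hAB⟩ := htwo
      refine of_injective (prod (hq A hA1) (hq B hB1))
        ((QuotientGroup.mk' A).prod (QuotientGroup.mk' B)) ?_
      rw [← MonoidHom.ker_eq_bot_iff, MonoidHom.ker_prod, QuotientGroup.ker_mk',
        QuotientGroup.ker_mk', hAB]
    simp only [not_exists, not_and] at htwo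
    obtain ⟨p, hpS, hpmax⟩ := Finset.exists_max_image (Nat.card G).primeFactors id
      (Nat.nonempty_primeFactors.2 Finite.one_lt_card)
    obtain ⟨hp, hpd, -⟩ := Nat.mem_primeFactors.1 hpS
    haveI := Fact.mk hp
    let P : Sylow p G := default
    haveI hPn := sylow_normal_of_index_prime h p
      (fun q hq' hd => hpmax q (Nat.mem_primeFactors.2 ⟨hq', hd, Nat.card_pos.ne'⟩)) P
    obtain ⟨N, hN, hNP, hNne, hNmin⟩ := Cores.MinNormal.exists_minimal_le
      (K := (P : Subgroup G)) (P.ne_bot_of_dvd_card hpd)
    haveI := hN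
    have huniq : ∀ K : Subgroup G, K.Normal → K ≠ ⊥ → N ≤ K := by
      intro K hK hKne
      rcases hNmin (N ⊓ K) inferInstance inf_le_left with h1 | h1
      · exact absurd h1 (htwo N K hN hK hNne hKne)
      · exact inf_eq_left.1 h1
    haveI : Nontrivial (P : Subgroup G) :=
      (Subgroup.nontrivial_iff_ne_bot _).2 (P.ne_bot_of_dvd_card hpd)
    haveI := P.isPGroup'.center_nontrivial
    set Z := (center (P : Subgroup G)).map (P : Subgroup G).subtype with hZ
    have hNZ : N ≤ Z := huniq Z inferInstance (by
      rw [Ne, map_eq_bot_iff_of_injective _ (P : Subgroup G).subtype_injective]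
      exact (Subgroup.nontrivial_iff_ne_bot _).1 inferInstance)
    have hcen : (P : Subgroup G) ≤ centralizer (N : Set G) := by
      intro y hy
      rw [mem_centralizer_iff]
      intro x hx
      obtain ⟨z, hz, rfl⟩ := hNZ hx
      exact (congrArg Subtype.val (mem_center_iff.1 hz ⟨y, hy⟩)).symm
    haveI : IsMulCommutative N :=
      le_centralizer_iff_isMulCommutative.1 (hNP.trans hcen)
    obtain ⟨q, hq', hexp⟩ := Cores.MinNormal.exists_prime_pow_eq_one hNne hNmin
    obtain ⟨x, hx, hx1⟩ := N.bot_or_exists_ne_one.resolve_left hNne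
    have hqp : q = p := by
      haveI := Fact.mk hq'
      have h1 : orderOf x = q := orderOf_eq_prime (hexp x hx) hx1
      obtain ⟨k, hk⟩ := IsPGroup.iff_orderOf.1 P.isPGroup' ⟨x, hNP hx⟩
      rw [← orderOf_coe] at hk
      simp only at hk
      exact (Nat.prime_dvd_prime_iff_eq hq' hp).1 (hq'.dvd_of_dvd_pow (dvd_of_eq (h1.symm.trans hk)))
    subst hqp
    suffices IsCyclic N from of_quotient N (hq N hNne)
    by_cases hΦ : N ≤ frattini G
    · refine isCyclic_of_le_frattini q P N hNne huniq hNP hcen hexp (fun H hH => ?_) (hq N hNne)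
      have htop : H = ⊤ := frattini_nongenerating (top_le_iff.1 (hH.sup_eq_top.symm.le.trans
        (sup_le (hΦ.trans le_sup_right) le_sup_left)))
      exact hNne (by rw [← hH.disjoint.eq_bot, htop, inf_top_eq])
    · obtain ⟨M, hM, hNM⟩ : ∃ M : Subgroup G, IsCoatom M ∧ ¬ N ≤ M := by
        by_contra hall
        simp only [not_exists, not_and, not_not] at hall
        exact hΦ (le_iInf₂ fun M hM => hall M hM)
      have hsup : M ⊔ N = ⊤ := hM.2 _ (left_lt_sup.2 hNM)
      have hMN : (M ⊓ N).Normal := by
        rw [← normalizer_eq_top_iff, eq_top_iff, ← hsup]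
        refine sup_le (Coprime.le_normalizer_inf le_normalizer le_normalizer_of_normal) ?_
        refine le_trans ?_ (centralizer_le_normalizer _)
        exact le_trans (le_centralizer (H := N)) (centralizer_le inf_le_right)
      have hbot : M ⊓ N = ⊥ := by
        by_contra hne
        exact hNM ((huniq _ hMN hne).trans inf_le_left)
      have hc : IsComplement' N M := by
        refine isComplement'_of_disjoint_and_mul_eq_univ
          (disjoint_iff.2 (by rw [inf_comm, hbot])) ?_
        rw [← normal_mul, sup_comm, hsup, coe_top]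
      have := h M hM
      rw [hc.index_eq_card] at this
      exact @isCyclic_of_prime_card _ _ _ ⟨this⟩ rfl

end Cfsg.Agent.Lib.Supersolvable
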