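import Mathlib
import Cfsg.Prelude.Def_SolvableStructure

/-!
Supersolvable groups: closure properties and the induction principle.
-/

set_option autoImplicit false
set_option linter.style.haveILetI false

namespace Cfsg.Agent.Lib.Supersolvable

open Subgroup
open scoped commutatorElement

universe u

variable {G : Type u} [Group G]

theorem of_subsingleton [Subsingleton G] : IsSupersolvable G :=
  ⟨0, fun _ => ⊥, rfl, Subsingleton.elim _ _, fun _ => inferInstance, fun i => i.elim0⟩

/-- An extension of a cyclic group by a supersolvable one is supersolvable. -/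
theorem of_ker {G' : Type*} [Group G'] (f : G →* G') (hf : Function.Surjective f)
    [IsCyclic f.ker] (h : IsSupersolvable G') : IsSupersolvable G := by
  obtain ⟨n, H, h0, hl, hn, hstep⟩ := h
  obtain ⟨z, hz⟩ := IsCyclic.exists_zpow_surjective (G := f.ker)
  refine ⟨n + 1, Fin.cons ⊥ (fun i => (H i).comap f), rfl, ?_, ?_, ?_⟩
  · rw [← Fin.succ_last, Fin.cons_succ, hl, comap_top]
  · intro i
    induction i using Fin.cases with
    | zero => rw [Fin.cons_zero]; infer_instance
    | succ j => rw [Fin.cons_succ]; exact (hn j).comap f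
  · intro i
    induction i using Fin.cases with
    | zero =>
      refine ⟨z, ?_⟩
      rw [Fin.castSucc_zero, Fin.cons_zero, bot_sup_eq, Fin.cons_succ, h0, MonoidHom.comap_bot]
      refine le_antisymm (fun x hx => ?_) (zpowers_le.2 z.2)
      obtain ⟨k, hk⟩ := hz ⟨x, hx⟩
      exact ⟨k, congrArg Subtype.val hk⟩
    | succ j =>
      obtain ⟨g', hg⟩ := hstep j
      obtain ⟨g, rfl⟩ := hf g'
      refine ⟨g, ?_⟩
      rw [Fin.cons_succ, ← Fin.succ_castSucc, Fin.cons_succ, hg, ← MonoidHom.map_zpowers,
        ← comap_map_eq_self (H := (H j.castSucc).comap f ⊔ zpowers g)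
          (le_sup_of_le_left (ker_le_comap f _)),
        Subgroup.map_sup, map_comap_eq_self_of_surjective hf]

/-- A cyclic normal subgroup with supersolvable quotient. -/
theorem of_quotient (N : Subgroup G) [N.Normal] [IsCyclic N] (h : IsSupersolvable (G ⧸ N)) :
    IsSupersolvable G :=
  haveI : IsCyclic (QuotientGroup.mk' N).ker := by rw [QuotientGroup.ker_mk']; infer_instance
  of_ker (QuotientGroup.mk' N) (QuotientGroup.mk'_surjective N) h

theorem of_isCyclic [IsCyclic G] : IsSupersolvable G :=
  haveI : IsCyclic (1 : G →* PUnit.{u + 1}).ker := inferInstance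
  of_ker (1 : G →* PUnit.{u + 1}) (fun _ => ⟨1, Subsingleton.elim _ _⟩) of_subsingleton

/-- Images of supersolvable groups are supersolvable. -/
theorem of_surjective {G' : Type*} [Group G'] (f : G →* G') (hf : Function.Surjective f)
    (h : IsSupersolvable G) : IsSupersolvable G' := by
  obtain ⟨n, H, h0, hl, hn, hstep⟩ := h
  refine ⟨n, fun i => (H i).map f, by simp [h0], ?_, fun i => (hn i).map f hf, fun i => ?_⟩
  · simp only [hl, map_top_of_surjective f hf]
  · obtain ⟨g, hg⟩ := hstep i
    exact ⟨f g, by simp only [hg, Subgroup.map_sup, MonoidHom.map_zpowers]⟩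

theorem of_mulEquiv {G' : Type*} [Group G'] (e : G ≃* G') (h : IsSupersolvable G) :
    IsSupersolvable G' :=
  of_surjective e.toMonoidHom e.surjective h

theorem quotient (h : IsSupersolvable G) (N : Subgroup G) [N.Normal] : IsSupersolvable (G ⧸ N) :=
  of_surjective _ (QuotientGroup.mk'_surjective N) h

/-- A nontrivial finite supersolvable group has a normal subgroup of prime order. -/
theorem exists_prime_normal [Finite G] [Nontrivial G] (h : IsSupersolvable G) :
    ∃ (p : ℕ) (P : Subgroup G), p.Prime ∧ Nat.card P = p ∧ P.Normal := by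
  obtain ⟨n, H, h0, hl, hn, hstep⟩ := h
  obtain ⟨C, hC, hCn, hCc⟩ : ∃ C : Subgroup G, C ≠ ⊥ ∧ C.Normal ∧ IsCyclic C := by
    by_contra hcon
    have : ∀ i, H i = ⊥ := by
      intro i
      induction i using Fin.induction with
      | zero => exact h0
      | succ i ih =>
        obtain ⟨g, hg⟩ := hstep i
        rw [ih, bot_sup_eq] at hg
        by_contra hne
        exact hcon ⟨_, hne, hn _, hg ▸ inferInstance⟩
    exact bot_ne_top ((this (Fin.last n)).symm.trans hl)
  obtain ⟨p, hp, hpd⟩ := Nat.exists_prime_and_dvd (mt card_eq_one.1 hC)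
  haveI := Fact.mk hp
  obtain ⟨x, hx⟩ := exists_prime_orderOf_dvd_card' p hpd
  haveI : (zpowers x).Characteristic := by
    rw [characteristic_iff_map_le]
    intro φ
    rw [MonoidHom.map_zpowers]
    refine zpowers_le.2 ?_
    obtain ⟨g, hg⟩ := IsCyclic.exists_zpow_surjective (G := C)
    obtain ⟨k, hk⟩ := hg x
    obtain ⟨l, hl'⟩ := hg (φ g)
    refine ⟨l, ?_⟩
    show x ^ l = φ x
    simp only at hk hl'
    rw [← hk, map_zpow, ← hl', ← zpow_mul, ← zpow_mul, mul_comm]
  refine ⟨p, (zpowers x).map C.subtype, hp, ?_, inferInstance⟩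
  rw [Nat.card_congr ((zpowers x).equivMapOfInjective _ C.subtype_injective).toEquiv.symm,
    Nat.card_zpowers, hx]

theorem card_quotient_lt [Finite G] {P : Subgroup G} {p : ℕ} (hp : p.Prime)
    (hP : Nat.card P = p) : Nat.card (G ⧸ P) < Nat.card G := by
  rw [card_eq_card_quotient_mul_card_subgroup P, hP]
  exact lt_mul_of_one_lt_right Nat.card_pos hp.one_lt

/-- Induction on a finite supersolvable group along normal subgroups of prime order. -/
theorem induction {motive : ∀ (G : Type u) [Group G], Prop}
    (hbase : ∀ (G : Type u) [Group G] [Subsingleton G], motive G)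
    (hstep : ∀ (G : Type u) [Group G] [Finite G] (P : Subgroup G) [P.Normal] (p : ℕ),
      p.Prime → Nat.card P = p → IsSupersolvable G → IsSupersolvable (G ⧸ P) →
      motive (G ⧸ P) → motive G)
    (G : Type u) [Group G] [Finite G] (h : IsSupersolvable G) : motive G := by
  suffices ∀ n (G : Type u) [Group G] [Finite G], Nat.card G = n → IsSupersolvable G → motive G
    from this _ G rfl h
  intro n
  induction n using Nat.strong_induction_on with
  | _ n IH =>
    intro G _ _ hn hG
    rcases subsingleton_or_nontrivial G with hs | hs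
    · exact hbase G
    obtain ⟨p, P, hp, hPc, hPn⟩ := exists_prime_normal hG
    haveI := hPn
    exact hstep G P p hp hPc hG (quotient hG P)
      (IH _ (hn ▸ card_quotient_lt hp hPc) _ rfl (quotient hG P))

/-- Groups embedding in a finite supersolvable group are supersolvable. -/
theorem of_injective [Finite G] (h : IsSupersolvable G) {G' : Type u} [Group G'] (f : G' →* G)
    (hf : Function.Injective f) : IsSupersolvable G' := by
  refine induction (motive := fun G [Group G] => ∀ (G' : Type u) [Group G'] (f : G' →* G),
    Function.Injective f → IsSupersolvable G') ?_ ?_ G h G' f hf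
  · intro G _ _ G' _ f hf
    haveI : Subsingleton G' := hf.subsingleton
    exact of_subsingleton
  · intro G _ _ P _ p hp hPc _ _ IH G' _ f hf
    set g := (QuotientGroup.mk' P).comp f with hg
    haveI : IsCyclic P := @isCyclic_of_prime_card _ _ p ⟨hp⟩ hPc
    haveI : IsCyclic g.rangeRestrict.ker := by
      rw [MonoidHom.ker_rangeRestrict]
      refine isCyclic_of_injective ((f.comp g.ker.subtype).codRestrict P fun x => ?_) ?_
      · exact (QuotientGroup.eq_one_iff _).1 x.2
      · intro x y hxy
        exact Subtype.ext (hf (congrArg Subtype.val hxy))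
    exact of_ker g.rangeRestrict g.rangeRestrict_surjective
      (IH _ g.range.subtype g.range.subtype_injective)

theorem subgroup [Finite G] (h : IsSupersolvable G) (H : Subgroup G) : IsSupersolvable H :=
  of_injective h H.subtype H.subtype_injective

/-- A finite `p`-group is supersolvable. -/
theorem of_isPGroup [Finite G] {p : ℕ} [Fact p.Prime] (hG : IsPGroup p G) :
    IsSupersolvable G := by
  suffices ∀ n (G : Type u) [Group G] [Finite G], Nat.card G = n → IsPGroup p G →
      IsSupersolvable G from this _ G rfl hG
  intro n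
  induction n using Nat.strong_induction_on with
  | _ n IH =>
    intro G _ _ hn hG
    rcases subsingleton_or_nontrivial G with hs | hs
    · exact of_subsingleton
    haveI := hG.center_nontrivial
    obtain ⟨m, hm, hcard⟩ := (hG.to_subgroup (center G)).nontrivial_iff_card.1 inferInstance
    obtain ⟨x, hx⟩ := exists_prime_orderOf_dvd_card' p (hcard ▸ dvd_pow_self p (by omega))
    haveI : (zpowers (x : G)).Normal := ⟨fun y hy g => by
      have : y ∈ center G := zpowers_le.2 x.2 hy
      rw [mem_center_iff.1 this g, mul_inv_cancel_right]; exact hy⟩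
    have hc : Nat.card (zpowers (x : G)) = p := by rw [Nat.card_zpowers, orderOf_coe, hx]
    exact of_quotient (zpowers (x : G))
      (IH _ (hn ▸ card_quotient_lt Fact.out hc) _ rfl (hG.to_quotient _))

/-- Direct products of supersolvable groups are supersolvable. -/
theorem prod {H : Type*} [Group H] [Finite G] (hG : IsSupersolvable G)
    (hH : IsSupersolvable H) : IsSupersolvable (G × H) := by
  refine induction (motive := fun G [Group G] => IsSupersolvable (G × H)) ?_ ?_ G hG
  · intro G _ _
    exact of_mulEquiv (MulEquiv.ofBijective (MonoidHom.inr G H)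
      ⟨fun a b h => congrArg Prod.snd h, fun x => ⟨x.2, Prod.ext (Subsingleton.elim _ _) rfl⟩⟩) hH
  · intro G _ _ P _ p hp hPc _ _ IH
    set f := (QuotientGroup.mk' P).prodMap (MonoidHom.id H)
    haveI : IsCyclic P := @isCyclic_of_prime_card _ _ p ⟨hp⟩ hPc
    haveI : IsCyclic f.ker := by
      refine isCyclic_of_injective (((MonoidHom.fst G H).comp f.ker.subtype).codRestrict P
        fun x => ?_) ?_
      · exact (QuotientGroup.eq_one_iff _).1 (congrArg Prod.fst (MonoidHom.mem_ker.1 x.2))
      · intro x y hxy
        refine Subtype.ext (Prod.ext (congrArg Subtype.val hxy) ?_)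
        exact (congrArg Prod.snd (MonoidHom.mem_ker.1 x.2)).trans
          (congrArg Prod.snd (MonoidHom.mem_ker.1 y.2)).symm
    exact of_ker f (Prod.map_surjective.2 ⟨QuotientGroup.mk'_surjective P, fun x => ⟨x, rfl⟩⟩) IH

/-- Supersolvable finite groups are solvable. -/
theorem isSolvable [Finite G] (h : IsSupersolvable G) : Group.IsSolvable G := by
  refine induction (motive := fun G [Group G] => Group.IsSolvable G) ?_ ?_ G h
  · intro G _ _; infer_instance
  · intro G _ _ P _ p hp hPc _ _ IH
    haveI := IH
    haveI : IsCyclic P := @isCyclic_of_prime_card _ _ p ⟨hp⟩ hPc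
    haveI : Group.IsSolvable P :=
      haveI := Group.IsSolvable
      open IsMulCommutative in inferInstance
    exact Group.isSolvable_of_ker_le_range P.subtype (QuotientGroup.mk' P) (by simp)

/-- A cyclic normal subgroup is centralised by the derived subgroup. -/
theorem commutator_le_centralizer (P : Subgroup G) [P.Normal] [IsCyclic P] :
    commutator G ≤ centralizer (P : Set G) := by
  rw [commutator_def, Subgroup.commutator_le]
  intro a _ b _
  rw [mem_centralizer_iff]
  intro x hx
  have hab : MulAut.conjNormal (H := P) a * MulAut.conjNormal b =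
      MulAut.conjNormal b * MulAut.conjNormal a := by
    apply (IsCyclic.mulAutMulEquiv P).injective
    rw [map_mul, map_mul, mul_comm]
  have h1 : MulAut.conjNormal (H := P) ⁅a, b⁆ = 1 := by
    rw [map_commutatorElement, commutatorElement_eq_one_iff_mul_comm]
    exact hab
  have := congrArg (fun φ : MulAut P => ((φ ⟨x, hx⟩ : P) : G)) h1
  simp only [MulAut.conjNormal_apply, MulAut.one_apply] at this
  exact (mul_inv_eq_iff_eq_mul.1 this).symm

/-- The derived subgroup of a finite supersolvable group is nilpotent. -/
theorem isNilpotent_commutator [Finite G] (h : IsSupersolvable G) :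
    Group.IsNilpotent (commutator G) := by
  refine induction (motive := fun G [Group G] => Group.IsNilpotent (commutator G)) ?_ ?_ G h
  · intro G _ _; infer_instance
  · intro G _ _ P _ p hp hPc _ _ IH
    haveI : IsCyclic P := @isCyclic_of_prime_card _ _ p ⟨hp⟩ hPc
    set f : commutator G →* commutator (G ⧸ P) :=
      ((QuotientGroup.mk' P).comp (commutator G).subtype).codRestrict _ fun x => by
        have : (commutator G).map (QuotientGroup.mk' P) ≤ commutator (G ⧸ P) := by
          rw [commutator_def, Subgroup.map_commutator, commutator_def]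
          exact Subgroup.commutator_mono le_top le_top
        exact this ⟨x, x.2, rfl⟩
    haveI := IH
    refine Subgroup.isNilpotent_of_ker_le_center f ?_
    intro x hx
    rw [mem_center_iff]
    intro y
    apply Subtype.ext
    have hxP : (x : G) ∈ P := (QuotientGroup.eq_one_iff _).1 (congrArg Subtype.val hx)
    exact (mem_centralizer_iff.1 (commutator_le_centralizer P y.2) x hxP).symm

/-- The image of a maximal subgroup containing the kernel is maximal. -/
theorem isCoatom_map_of_ker_le {G' : Type*} [Group G'] {f : G →* G'} (hf : Function.Surjective f)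
    {M : Subgroup G} (hker : f.ker ≤ M) (hM : IsCoatom M) : IsCoatom (M.map f) := by
  refine ⟨fun h => hM.1 ?_, fun K hK => ?_⟩
  · rw [← comap_map_eq_self hker, h, comap_top]
  · have h1 : M < K.comap f := by
      rw [← comap_map_eq_self hker]; exact (comap_lt_comap_of_surjective hf).2 hK
    rw [← map_comap_eq_self_of_surjective hf K, hM.2 _ h1, map_top_of_surjective f hf]

/-- Maximal subgroups of finite supersolvable groups have prime index. -/
theorem index_prime [Finite G] (h : IsSupersolvable G) (M : Subgroup G) (hM : IsCoatom M) :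
    M.index.Prime := by
  refine induction (motive := fun G [Group G] => ∀ M : Subgroup G, IsCoatom M → M.index.Prime)
    ?_ ?_ G h M hM
  · intro G _ _ M hM
    exact absurd (Subsingleton.elim M ⊤) hM.1
  · intro G _ _ P _ p hp hPc _ _ IH M hM
    by_cases hPM : P ≤ M
    · have hker : (QuotientGroup.mk' P).ker ≤ M := by rwa [QuotientGroup.ker_mk']
      rw [← index_map_eq M (QuotientGroup.mk'_surjective P) hker]
      exact IH _ (isCoatom_map_of_ker_le (QuotientGroup.mk'_surjective P) hker hM)
    · have hsup : M ⊔ P = ⊤ := hM.2 _ (left_lt_sup.2 hPM)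
      have hinf : M ⊓ P = ⊥ := by
        rcases (Nat.dvd_prime hp).1 (hPc ▸ card_dvd_of_le (inf_le_right : M ⊓ P ≤ P)) with h1 | h1
        · exact card_eq_one.1 h1
        · have h2 : M ⊓ P = P := eq_of_le_of_card_ge inf_le_right (le_of_eq (hPc.trans h1.symm))
          exact absurd (inf_eq_right.1 h2) hPM
      have hc : IsComplement' P M := by
        refine isComplement'_of_disjoint_and_mul_eq_univ (disjoint_iff.2 (by rw [inf_comm, hinf])) ?_
        rw [← normal_mul, sup_comm, hsup, coe_top]
      rw [hc.index_eq_card, hPc]; exact hp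

/-- A finite supersolvable group has a normal subgroup whose order is the largest prime divisor
of the group order. -/
theorem exists_normal_max_prime [Finite G] (h : IsSupersolvable G) (p : ℕ) (hp : p.Prime)
    (hdvd : p ∣ Nat.card G) (hmax : ∀ q : ℕ, q.Prime → q ∣ Nat.card G → q ≤ p) :
    ∃ P : Subgroup G, P.Normal ∧ Nat.card P = p := by
  refine induction (motive := fun G [Group G] => p ∣ Nat.card G →
    (∀ q : ℕ, q.Prime → q ∣ Nat.card G → q ≤ p) → ∃ P : Subgroup G, P.Normal ∧ Nat.card P = p)
    ?_ ?_ G h hdvd hmax
  · intro G _ _ hd _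
    rw [Nat.card_unique] at hd
    exact absurd (Nat.eq_one_of_dvd_one hd) hp.ne_one
  · intro G _ _ P hPn r hr hPc _ _ IH hd hmax
    by_cases hrp : r = p
    · exact ⟨P, hPn, hPc.trans hrp⟩
    have hrlt : r < p :=
      lt_of_le_of_ne (hmax r hr (hPc ▸ card_subgroup_dvd_card P)) hrp
    have hd' : p ∣ Nat.card (G ⧸ P) := by
      rw [card_eq_card_quotient_mul_card_subgroup P, hPc] at hd
      exact (hp.dvd_mul.1 hd).resolve_right fun h =>
        hrp ((Nat.prime_dvd_prime_iff_eq hp hr).1 h).symm
    obtain ⟨Q', hQ'n, hQ'c⟩ := IH hd' fun q hq hqd => hmax q hq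
      (hqd.trans (card_quotient_dvd_card P))
    set Q := Q'.comap (QuotientGroup.mk' P) with hQdef
    have hQn : Q.Normal := hQ'n.comap _
    have hPQ : P ≤ Q := fun x hx => by
      rw [hQdef, mem_comap, QuotientGroup.mk'_apply, (QuotientGroup.eq_one_iff x).2 hx]
      exact one_mem _
    have hQc : Nat.card Q = r * p := by
      have h1 : Q.index = Q'.index := index_comap_of_surjective _ (QuotientGroup.mk'_surjective P)
      have h2 := Q.card_mul_index
      have h3 := Q'.card_mul_index
      rw [hQ'c] at h3
      rw [card_eq_card_quotient_mul_card_subgroup P, hPc, ← h3, h1] at h2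
      refine Nat.eq_of_mul_eq_mul_right (Nat.pos_of_ne_zero (Q'.index_ne_zero_of_finite)) ?_
      rw [h2]; ring
    haveI := Fact.mk hp
    let S : Sylow p Q := default
    have hSc : Nat.card (S : Subgroup Q) = p := by
      rw [S.card_eq_multiplicity, hQc, Nat.factorization_mul hr.ne_zero hp.ne_zero]
      simp [hr.factorization, hp.factorization, hrp]
    have hSi : (S : Subgroup Q).index = r := by
      have := (S : Subgroup Q).card_mul_index
      rw [hSc, hQc, mul_comm r p] at this
      exact Nat.eq_of_mul_eq_mul_left hp.pos this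
    have hone : Nat.card (Sylow p Q) = 1 := by
      rcases (Nat.dvd_prime hr).1 (hSi ▸ S.card_dvd_index) with h1 | h1
      · exact h1
      · exfalso
        have := card_sylow_modEq_one p Q
        rw [h1, Nat.ModEq, Nat.mod_eq_of_lt hrlt, Nat.mod_eq_of_lt hp.one_lt] at this
        exact hr.ne_one this
    haveI : Subsingleton (Sylow p Q) := (Nat.card_eq_one_iff_unique.1 hone).1
    haveI : (S : Subgroup Q).Characteristic := S.characteristic_of_normal S.normal_of_subsingleton
    haveI := hQn
    refine ⟨(S : Subgroup Q).map Q.subtype, inferInstance, ?_⟩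
    rw [Nat.card_congr ((S : Subgroup Q).equivMapOfInjective _ Q.subtype_injective).toEquiv.symm,
      hSc]

end Cfsg.Agent.Lib.Supersolvable
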